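import Cfsg.Agent.J4NonLocal.PGLMax.Data.Nodes0
import Cfsg.Agent.J4NonLocal.PGLMax.Data.Nodes1
import Cfsg.Agent.J4NonLocal.PGLMax.Data.Nodes2

/-!
The table of the nodes and how they arise.
-/

set_option autoImplicit false
set_option maxRecDepth 8000

namespace Cfsg.Lib.J4NonLocal.PGLMax

open Cfsg.Lib.J4Cert

/-- A subtree. -/
def ndTree0 : Tr (List ℕ) := .node (.leaf nd0) (.leaf nd128)

/-- A subtree. -/
def ndTree1 : Tr (List ℕ) := .node ndTree0 (.leaf nd64)

/-- A subtree. -/
def ndTree2 : Tr (List ℕ) := .node (.leaf nd32) (.leaf nd160)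

/-- A subtree. -/
def ndTree3 : Tr (List ℕ) := .node ndTree2 (.leaf nd96)

/-- A subtree. -/
def ndTree4 : Tr (List ℕ) := .node ndTree1 ndTree3

/-- A subtree. -/
def ndTree5 : Tr (List ℕ) := .node (.leaf nd16) (.leaf nd144)

/-- A subtree. -/
def ndTree6 : Tr (List ℕ) := .node ndTree5 (.leaf nd80)

/-- A subtree. -/
def ndTree7 : Tr (List ℕ) := .node (.leaf nd48) (.leaf nd176)

/-- A subtree. -/
def ndTree8 : Tr (List ℕ) := .node ndTree7 (.leaf nd112)

/-- A subtree. -/
def ndTree9 : Tr (List ℕ) := .node ndTree6 ndTree8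

/-- A subtree. -/
def ndTree10 : Tr (List ℕ) := .node ndTree4 ndTree9

/-- A subtree. -/
def ndTree11 : Tr (List ℕ) := .node (.leaf nd8) (.leaf nd136)

/-- A subtree. -/
def ndTree12 : Tr (List ℕ) := .node ndTree11 (.leaf nd72)

/-- A subtree. -/
def ndTree13 : Tr (List ℕ) := .node (.leaf nd40) (.leaf nd168)

/-- A subtree. -/
def ndTree14 : Tr (List ℕ) := .node ndTree13 (.leaf nd104)

/-- A subtree. -/
def ndTree15 : Tr (List ℕ) := .node ndTree12 ndTree14

/-- A subtree. -/
def ndTree16 : Tr (List ℕ) := .node (.leaf nd24) (.leaf nd152)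

/-- A subtree. -/
def ndTree17 : Tr (List ℕ) := .node ndTree16 (.leaf nd88)

/-- A subtree. -/
def ndTree18 : Tr (List ℕ) := .node (.leaf nd56) (.leaf nd120)

/-- A subtree. -/
def ndTree19 : Tr (List ℕ) := .node ndTree17 ndTree18

/-- A subtree. -/
def ndTree20 : Tr (List ℕ) := .node ndTree15 ndTree19

/-- A subtree. -/
def ndTree21 : Tr (List ℕ) := .node ndTree10 ndTree20

/-- A subtree. -/
def ndTree22 : Tr (List ℕ) := .node (.leaf nd4) (.leaf nd132)

/-- A subtree. -/
def ndTree23 : Tr (List ℕ) := .node ndTree22 (.leaf nd68)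

/-- A subtree. -/
def ndTree24 : Tr (List ℕ) := .node (.leaf nd36) (.leaf nd164)

/-- A subtree. -/
def ndTree25 : Tr (List ℕ) := .node ndTree24 (.leaf nd100)

/-- A subtree. -/
def ndTree26 : Tr (List ℕ) := .node ndTree23 ndTree25

/-- A subtree. -/
def ndTree27 : Tr (List ℕ) := .node (.leaf nd20) (.leaf nd148)

/-- A subtree. -/
def ndTree28 : Tr (List ℕ) := .node ndTree27 (.leaf nd84)

/-- A subtree. -/
def ndTree29 : Tr (List ℕ) := .node (.leaf nd52) (.leaf nd116)

/-- A subtree. -/
def ndTree30 : Tr (List ℕ) := .node ndTree28 ndTree29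

/-- A subtree. -/
def ndTree31 : Tr (List ℕ) := .node ndTree26 ndTree30

/-- A subtree. -/
def ndTree32 : Tr (List ℕ) := .node (.leaf nd12) (.leaf nd140)

/-- A subtree. -/
def ndTree33 : Tr (List ℕ) := .node ndTree32 (.leaf nd76)

/-- A subtree. -/
def ndTree34 : Tr (List ℕ) := .node (.leaf nd44) (.leaf nd172)

/-- A subtree. -/
def ndTree35 : Tr (List ℕ) := .node ndTree34 (.leaf nd108)

/-- A subtree. -/
def ndTree36 : Tr (List ℕ) := .node ndTree33 ndTree35

/-- A subtree. -/
def ndTree37 : Tr (List ℕ) := .node (.leaf nd28) (.leaf nd156)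

/-- A subtree. -/
def ndTree38 : Tr (List ℕ) := .node ndTree37 (.leaf nd92)

/-- A subtree. -/
def ndTree39 : Tr (List ℕ) := .node (.leaf nd60) (.leaf nd124)

/-- A subtree. -/
def ndTree40 : Tr (List ℕ) := .node ndTree38 ndTree39

/-- A subtree. -/
def ndTree41 : Tr (List ℕ) := .node ndTree36 ndTree40

/-- A subtree. -/
def ndTree42 : Tr (List ℕ) := .node ndTree31 ndTree41

/-- A subtree. -/
def ndTree43 : Tr (List ℕ) := .node ndTree21 ndTree42

/-- A subtree. -/
def ndTree44 : Tr (List ℕ) := .node (.leaf nd2) (.leaf nd130)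

/-- A subtree. -/
def ndTree45 : Tr (List ℕ) := .node ndTree44 (.leaf nd66)

/-- A subtree. -/
def ndTree46 : Tr (List ℕ) := .node (.leaf nd34) (.leaf nd162)

/-- A subtree. -/
def ndTree47 : Tr (List ℕ) := .node ndTree46 (.leaf nd98)

/-- A subtree. -/
def ndTree48 : Tr (List ℕ) := .node ndTree45 ndTree47

/-- A subtree. -/
def ndTree49 : Tr (List ℕ) := .node (.leaf nd18) (.leaf nd146)

/-- A subtree. -/
def ndTree50 : Tr (List ℕ) := .node ndTree49 (.leaf nd82)

/-- A subtree. -/
def ndTree51 : Tr (List ℕ) := .node (.leaf nd50) (.leaf nd178)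

/-- A subtree. -/
def ndTree52 : Tr (List ℕ) := .node ndTree51 (.leaf nd114)

/-- A subtree. -/
def ndTree53 : Tr (List ℕ) := .node ndTree50 ndTree52

/-- A subtree. -/
def ndTree54 : Tr (List ℕ) := .node ndTree48 ndTree53

/-- A subtree. -/
def ndTree55 : Tr (List ℕ) := .node (.leaf nd10) (.leaf nd138)

/-- A subtree. -/
def ndTree56 : Tr (List ℕ) := .node ndTree55 (.leaf nd74)

/-- A subtree. -/
def ndTree57 : Tr (List ℕ) := .node (.leaf nd42) (.leaf nd170)

/-- A subtree. -/
def ndTree58 : Tr (List ℕ) := .node ndTree57 (.leaf nd106)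

/-- A subtree. -/
def ndTree59 : Tr (List ℕ) := .node ndTree56 ndTree58

/-- A subtree. -/
def ndTree60 : Tr (List ℕ) := .node (.leaf nd26) (.leaf nd154)

/-- A subtree. -/
def ndTree61 : Tr (List ℕ) := .node ndTree60 (.leaf nd90)

/-- A subtree. -/
def ndTree62 : Tr (List ℕ) := .node (.leaf nd58) (.leaf nd122)

/-- A subtree. -/
def ndTree63 : Tr (List ℕ) := .node ndTree61 ndTree62

/-- A subtree. -/
def ndTree64 : Tr (List ℕ) := .node ndTree59 ndTree63

/-- A subtree. -/
def ndTree65 : Tr (List ℕ) := .node ndTree54 ndTree64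

/-- A subtree. -/
def ndTree66 : Tr (List ℕ) := .node (.leaf nd6) (.leaf nd134)

/-- A subtree. -/
def ndTree67 : Tr (List ℕ) := .node ndTree66 (.leaf nd70)

/-- A subtree. -/
def ndTree68 : Tr (List ℕ) := .node (.leaf nd38) (.leaf nd166)

/-- A subtree. -/
def ndTree69 : Tr (List ℕ) := .node ndTree68 (.leaf nd102)

/-- A subtree. -/
def ndTree70 : Tr (List ℕ) := .node ndTree67 ndTree69

/-- A subtree. -/
def ndTree71 : Tr (List ℕ) := .node (.leaf nd22) (.leaf nd150)

/-- A subtree. -/
def ndTree72 : Tr (List ℕ) := .node ndTree71 (.leaf nd86)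

/-- A subtree. -/
def ndTree73 : Tr (List ℕ) := .node (.leaf nd54) (.leaf nd118)

/-- A subtree. -/
def ndTree74 : Tr (List ℕ) := .node ndTree72 ndTree73

/-- A subtree. -/
def ndTree75 : Tr (List ℕ) := .node ndTree70 ndTree74

/-- A subtree. -/
def ndTree76 : Tr (List ℕ) := .node (.leaf nd14) (.leaf nd142)

/-- A subtree. -/
def ndTree77 : Tr (List ℕ) := .node ndTree76 (.leaf nd78)

/-- A subtree. -/
def ndTree78 : Tr (List ℕ) := .node (.leaf nd46) (.leaf nd174)

/-- A subtree. -/
def ndTree79 : Tr (List ℕ) := .node ndTree78 (.leaf nd110)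

/-- A subtree. -/
def ndTree80 : Tr (List ℕ) := .node ndTree77 ndTree79

/-- A subtree. -/
def ndTree81 : Tr (List ℕ) := .node (.leaf nd30) (.leaf nd158)

/-- A subtree. -/
def ndTree82 : Tr (List ℕ) := .node ndTree81 (.leaf nd94)

/-- A subtree. -/
def ndTree83 : Tr (List ℕ) := .node (.leaf nd62) (.leaf nd126)

/-- A subtree. -/
def ndTree84 : Tr (List ℕ) := .node ndTree82 ndTree83

/-- A subtree. -/
def ndTree85 : Tr (List ℕ) := .node ndTree80 ndTree84

/-- A subtree. -/
def ndTree86 : Tr (List ℕ) := .node ndTree75 ndTree85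

/-- A subtree. -/
def ndTree87 : Tr (List ℕ) := .node ndTree65 ndTree86

/-- A subtree. -/
def ndTree88 : Tr (List ℕ) := .node ndTree43 ndTree87

/-- A subtree. -/
def ndTree89 : Tr (List ℕ) := .node (.leaf nd1) (.leaf nd129)

/-- A subtree. -/
def ndTree90 : Tr (List ℕ) := .node ndTree89 (.leaf nd65)

/-- A subtree. -/
def ndTree91 : Tr (List ℕ) := .node (.leaf nd33) (.leaf nd161)

/-- A subtree. -/
def ndTree92 : Tr (List ℕ) := .node ndTree91 (.leaf nd97)

/-- A subtree. -/
def ndTree93 : Tr (List ℕ) := .node ndTree90 ndTree92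

/-- A subtree. -/
def ndTree94 : Tr (List ℕ) := .node (.leaf nd17) (.leaf nd145)

/-- A subtree. -/
def ndTree95 : Tr (List ℕ) := .node ndTree94 (.leaf nd81)

/-- A subtree. -/
def ndTree96 : Tr (List ℕ) := .node (.leaf nd49) (.leaf nd177)

/-- A subtree. -/
def ndTree97 : Tr (List ℕ) := .node ndTree96 (.leaf nd113)

/-- A subtree. -/
def ndTree98 : Tr (List ℕ) := .node ndTree95 ndTree97

/-- A subtree. -/
def ndTree99 : Tr (List ℕ) := .node ndTree93 ndTree98

/-- A subtree. -/
def ndTree100 : Tr (List ℕ) := .node (.leaf nd9) (.leaf nd137)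

/-- A subtree. -/
def ndTree101 : Tr (List ℕ) := .node ndTree100 (.leaf nd73)

/-- A subtree. -/
def ndTree102 : Tr (List ℕ) := .node (.leaf nd41) (.leaf nd169)

/-- A subtree. -/
def ndTree103 : Tr (List ℕ) := .node ndTree102 (.leaf nd105)

/-- A subtree. -/
def ndTree104 : Tr (List ℕ) := .node ndTree101 ndTree103

/-- A subtree. -/
def ndTree105 : Tr (List ℕ) := .node (.leaf nd25) (.leaf nd153)

/-- A subtree. -/
def ndTree106 : Tr (List ℕ) := .node ndTree105 (.leaf nd89)

/-- A subtree. -/
def ndTree107 : Tr (List ℕ) := .node (.leaf nd57) (.leaf nd121)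

/-- A subtree. -/
def ndTree108 : Tr (List ℕ) := .node ndTree106 ndTree107

/-- A subtree. -/
def ndTree109 : Tr (List ℕ) := .node ndTree104 ndTree108

/-- A subtree. -/
def ndTree110 : Tr (List ℕ) := .node ndTree99 ndTree109

/-- A subtree. -/
def ndTree111 : Tr (List ℕ) := .node (.leaf nd5) (.leaf nd133)

/-- A subtree. -/
def ndTree112 : Tr (List ℕ) := .node ndTree111 (.leaf nd69)

/-- A subtree. -/
def ndTree113 : Tr (List ℕ) := .node (.leaf nd37) (.leaf nd165)

/-- A subtree. -/
def ndTree114 : Tr (List ℕ) := .node ndTree113 (.leaf nd101)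

/-- A subtree. -/
def ndTree115 : Tr (List ℕ) := .node ndTree112 ndTree114

/-- A subtree. -/
def ndTree116 : Tr (List ℕ) := .node (.leaf nd21) (.leaf nd149)

/-- A subtree. -/
def ndTree117 : Tr (List ℕ) := .node ndTree116 (.leaf nd85)

/-- A subtree. -/
def ndTree118 : Tr (List ℕ) := .node (.leaf nd53) (.leaf nd117)

/-- A subtree. -/
def ndTree119 : Tr (List ℕ) := .node ndTree117 ndTree118

/-- A subtree. -/
def ndTree120 : Tr (List ℕ) := .node ndTree115 ndTree119

/-- A subtree. -/
def ndTree121 : Tr (List ℕ) := .node (.leaf nd13) (.leaf nd141)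

/-- A subtree. -/
def ndTree122 : Tr (List ℕ) := .node ndTree121 (.leaf nd77)

/-- A subtree. -/
def ndTree123 : Tr (List ℕ) := .node (.leaf nd45) (.leaf nd173)

/-- A subtree. -/
def ndTree124 : Tr (List ℕ) := .node ndTree123 (.leaf nd109)

/-- A subtree. -/
def ndTree125 : Tr (List ℕ) := .node ndTree122 ndTree124

/-- A subtree. -/
def ndTree126 : Tr (List ℕ) := .node (.leaf nd29) (.leaf nd157)

/-- A subtree. -/
def ndTree127 : Tr (List ℕ) := .node ndTree126 (.leaf nd93)

/-- A subtree. -/
def ndTree128 : Tr (List ℕ) := .node (.leaf nd61) (.leaf nd125)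

/-- A subtree. -/
def ndTree129 : Tr (List ℕ) := .node ndTree127 ndTree128

/-- A subtree. -/
def ndTree130 : Tr (List ℕ) := .node ndTree125 ndTree129

/-- A subtree. -/
def ndTree131 : Tr (List ℕ) := .node ndTree120 ndTree130

/-- A subtree. -/
def ndTree132 : Tr (List ℕ) := .node ndTree110 ndTree131

/-- A subtree. -/
def ndTree133 : Tr (List ℕ) := .node (.leaf nd3) (.leaf nd131)

/-- A subtree. -/
def ndTree134 : Tr (List ℕ) := .node ndTree133 (.leaf nd67)

/-- A subtree. -/
def ndTree135 : Tr (List ℕ) := .node (.leaf nd35) (.leaf nd163)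

/-- A subtree. -/
def ndTree136 : Tr (List ℕ) := .node ndTree135 (.leaf nd99)

/-- A subtree. -/
def ndTree137 : Tr (List ℕ) := .node ndTree134 ndTree136

/-- A subtree. -/
def ndTree138 : Tr (List ℕ) := .node (.leaf nd19) (.leaf nd147)

/-- A subtree. -/
def ndTree139 : Tr (List ℕ) := .node ndTree138 (.leaf nd83)

/-- A subtree. -/
def ndTree140 : Tr (List ℕ) := .node (.leaf nd51) (.leaf nd115)

/-- A subtree. -/
def ndTree141 : Tr (List ℕ) := .node ndTree139 ndTree140

/-- A subtree. -/
def ndTree142 : Tr (List ℕ) := .node ndTree137 ndTree141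

/-- A subtree. -/
def ndTree143 : Tr (List ℕ) := .node (.leaf nd11) (.leaf nd139)

/-- A subtree. -/
def ndTree144 : Tr (List ℕ) := .node ndTree143 (.leaf nd75)

/-- A subtree. -/
def ndTree145 : Tr (List ℕ) := .node (.leaf nd43) (.leaf nd171)

/-- A subtree. -/
def ndTree146 : Tr (List ℕ) := .node ndTree145 (.leaf nd107)

/-- A subtree. -/
def ndTree147 : Tr (List ℕ) := .node ndTree144 ndTree146

/-- A subtree. -/
def ndTree148 : Tr (List ℕ) := .node (.leaf nd27) (.leaf nd155)

/-- A subtree. -/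
def ndTree149 : Tr (List ℕ) := .node ndTree148 (.leaf nd91)

/-- A subtree. -/
def ndTree150 : Tr (List ℕ) := .node (.leaf nd59) (.leaf nd123)

/-- A subtree. -/
def ndTree151 : Tr (List ℕ) := .node ndTree149 ndTree150

/-- A subtree. -/
def ndTree152 : Tr (List ℕ) := .node ndTree147 ndTree151

/-- A subtree. -/
def ndTree153 : Tr (List ℕ) := .node ndTree142 ndTree152

/-- A subtree. -/
def ndTree154 : Tr (List ℕ) := .node (.leaf nd7) (.leaf nd135)

/-- A subtree. -/
def ndTree155 : Tr (List ℕ) := .node ndTree154 (.leaf nd71)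

/-- A subtree. -/
def ndTree156 : Tr (List ℕ) := .node (.leaf nd39) (.leaf nd167)

/-- A subtree. -/
def ndTree157 : Tr (List ℕ) := .node ndTree156 (.leaf nd103)

/-- A subtree. -/
def ndTree158 : Tr (List ℕ) := .node ndTree155 ndTree157

/-- A subtree. -/
def ndTree159 : Tr (List ℕ) := .node (.leaf nd23) (.leaf nd151)

/-- A subtree. -/
def ndTree160 : Tr (List ℕ) := .node ndTree159 (.leaf nd87)

/-- A subtree. -/
def ndTree161 : Tr (List ℕ) := .node (.leaf nd55) (.leaf nd119)

/-- A subtree. -/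
def ndTree162 : Tr (List ℕ) := .node ndTree160 ndTree161

/-- A subtree. -/
def ndTree163 : Tr (List ℕ) := .node ndTree158 ndTree162

/-- A subtree. -/
def ndTree164 : Tr (List ℕ) := .node (.leaf nd15) (.leaf nd143)

/-- A subtree. -/
def ndTree165 : Tr (List ℕ) := .node ndTree164 (.leaf nd79)

/-- A subtree. -/
def ndTree166 : Tr (List ℕ) := .node (.leaf nd47) (.leaf nd175)

/-- A subtree. -/
def ndTree167 : Tr (List ℕ) := .node ndTree166 (.leaf nd111)

/-- A subtree. -/
def ndTree168 : Tr (List ℕ) := .node ndTree165 ndTree167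

/-- A subtree. -/
def ndTree169 : Tr (List ℕ) := .node (.leaf nd31) (.leaf nd159)

/-- A subtree. -/
def ndTree170 : Tr (List ℕ) := .node ndTree169 (.leaf nd95)

/-- A subtree. -/
def ndTree171 : Tr (List ℕ) := .node (.leaf nd63) (.leaf nd127)

/-- A subtree. -/
def ndTree172 : Tr (List ℕ) := .node ndTree170 ndTree171

/-- A subtree. -/
def ndTree173 : Tr (List ℕ) := .node ndTree168 ndTree172

/-- A subtree. -/
def ndTree174 : Tr (List ℕ) := .node ndTree163 ndTree173

/-- A subtree. -/
def ndTree175 : Tr (List ℕ) := .node ndTree153 ndTree174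

/-- A subtree. -/
def ndTree176 : Tr (List ℕ) := .node ndTree132 ndTree175

/-- A subtree. -/
def ndTree177 : Tr (List ℕ) := .node ndTree88 ndTree176

/-- The table of the nodes. -/
def ndTab : Tr (List ℕ) := ndTree177

/-- The products. -/
def ndProg0 : List (ℕ × ℕ) := [(0, 3), (548, 1), (549, 3), (550, 2), (551, 3), (552, 2), (553, 3), (554, 2), (555, 3), (556, 1), (557, 3), (558, 1), (559, 3), (560, 2), (561, 3), (562, 0), (0, 1), (564, 0), (565, 1), (566, 0), (567, 3), (568, 1), (569, 1), (570, 0), (571, 1), (572, 0), (573, 3), (574, 1), (575, 1), (576, 0), (577, 1), (578, 0), (579, 3), (580, 1), (581, 1), (582, 0), (583, 1), (584, 0), (585, 3), (586, 1), (587, 1), (588, 0), (589, 1), (590, 0), (591, 3), (592, 1), (593, 1), (594, 0), (595, 1), (596, 0), (597, 3), (598, 1), (599, 0), (563, 563), (601, 600), (602, 563), (603, 600), (604, 563), (605, 600), (606, 563), (607, 563), (608, 600), (609, 563), (610, 563), (611, 600), (612, 563), (613, 600), (614, 563), (615, 600), (616, 563),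 (617, 600), (618, 563), (619, 563), (607, 600), (621, 563), (622, 563), (623, 600), (624, 563), (625, 600), (626, 563)]

/-- The products. -/
def ndProg1 : List (ℕ × ℕ) := [(627, 600), (600, 563), (629, 600), (630, 563), (631, 600), (632, 563), (633, 563), (634, 600), (635, 563), (636, 563), (637, 600), (628, 628), (511, 485), (528, 172), (641, 640), (642, 640), (643, 640), (644, 1), (644, 2), (646, 645), (647, 647), (648, 648), (644, 549), (644, 23), (651, 650), (652, 652), (653, 653), (654, 654), (655, 655), (653, 656), (549, 657), (650, 651), (659, 659), (660, 660), (661, 661), (662, 662), (660, 663), (23, 664), (0, 2), (644, 666), (644, 4), (668, 667), (669, 669), (669, 670), (671, 649), (672, 665), (673, 665), (673, 649), (645, 646), (676, 676), (677, 677), (649, 658), (679, 649), (680, 678), (681, 665), (682, 675), (644, 564), (644, 5), (685, 684), (686, 686), (687, 687), (688, 688), (686, 687), (690, 688), (691, 689), (564, 692), (665, 693), (694, 671), (695, 665), (696, 678), (658,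 658), (698, 658), (699, 697), (700, 683), (639, 639), (702, 702), (628, 639), (704, 703), (705, 644), (706, 706)]

/-- The products. -/
def ndProg2 : List (ℕ × ℕ) := [(707, 707), (708, 708), (709, 709), (706, 707), (711, 710), (712, 701), (713, 713), (714, 714), (715, 715), (716, 716), (715, 717), (713, 490), (719, 718), (713, 478), (721, 718), (713, 640), (723, 718), (713, 528), (725, 718)]

end Cfsg.Lib.J4NonLocal.PGLMax
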